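import Mathlib

/-!
In a Noetherian ring, if a prime `p` is isolated by `f` among the primes above it, then the primes
strictly above `p` are pairwise incomparable (Artin–Tate).
-/

set_option autoImplicit false

universe u

namespace Groth.Agent.GoldmanLib

theorem eq_of_le_of_lt {A : Type u} [CommRing A] [IsNoetherianRing A] (p : Ideal A) [p.IsPrime] (f : A)
    (hfp0 : f ∉ p) (hf : ∀ q : Ideal A, q.IsPrime → p ≤ q → f ∉ q → q = p)
    {P P' : Ideal A} (hP : P.IsPrime) (hP' : P'.IsPrime) (hpP : p < P) (hPP' : P ≤ P') : P = P' := by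
  classical
  have hmem : ∀ Q : Ideal A, Q.IsPrime → p < Q → Q ∈ (p ⊔ Ideal.span {f}).minimalPrimes := by
    intro Q hQ hpQ
    have hfQ : f ∈ Q := by_contra fun h => hpQ.ne (hf Q hQ hpQ.le h).symm
    have hle : p ⊔ Ideal.span {f} ≤ Q := sup_le hpQ.le ((Ideal.span_singleton_le_iff_mem _).2 hfQ)
    by_contra hQM
    have hfin : (p ⊔ Ideal.span {f}).minimalPrimes.Finite := Ideal.finite_minimalPrimes_of_isNoetherianRing A _
    have hnot : ¬ (Q : Set A) ⊆ ⋃ I ∈ (↑hfin.toFinset : Set (Ideal A)), I := by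
      rw [Ideal.subset_union_prime ⊥ ⊥ (fun I hI _ _ => ((Set.Finite.mem_toFinset hfin).1 hI).isPrime)]
      rintro ⟨I, hI, hQI⟩
      rw [Set.Finite.mem_toFinset] at hI
      exact hQM (le_antisymm hQI (hI.2 ⟨hQ, hle⟩ hQI) ▸ hI)
    obtain ⟨g, hgQ, hg⟩ := Set.not_subset.1 hnot
    have hg' : ∀ I ∈ (p ⊔ Ideal.span {f}).minimalPrimes, g ∉ I := fun I hI h =>
      hg (Set.mem_iUnion₂.2 ⟨I, by simpa using hI, h⟩)
    obtain ⟨Q₁, hQ₁, hQ₁Q⟩ := Ideal.exists_minimalPrimes_le (I := p ⊔ Ideal.span {g}) (J := Q)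
      (sup_le hpQ.le ((Ideal.span_singleton_le_iff_mem _).2 hgQ))
    haveI := hQ₁.isPrime
    have hgQ₁ : g ∈ Q₁ := hQ₁.le (Ideal.mem_sup_right (Ideal.mem_span_singleton_self g))
    have hgp : g ∉ p := fun h => by
      obtain ⟨I, hI, -⟩ := Ideal.exists_minimalPrimes_le hle
      exact hg' I hI (hI.le (Ideal.mem_sup_left h))
    have hpQ₁ : p < Q₁ := lt_of_le_of_ne (le_sup_left.trans hQ₁.le) fun e => hgp (e ▸ hgQ₁)
    have hfQ₁ : f ∈ Q₁ := by_contra fun h => hpQ₁.ne (hf Q₁ inferInstance hpQ₁.le h).symm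
    obtain ⟨Q₂, hQ₂, hQ₂Q₁⟩ := Ideal.exists_minimalPrimes_le (I := p ⊔ Ideal.span {f}) (J := Q₁)
      (sup_le hpQ₁.le ((Ideal.span_singleton_le_iff_mem _).2 hfQ₁))
    haveI := hQ₂.isPrime
    have hne21 : Q₂ ≠ Q₁ := fun e => hg' Q₂ hQ₂ (e ▸ hgQ₁)
    have hpQ₂ : p < Q₂ := lt_of_le_of_ne (le_sup_left.trans hQ₂.le) fun e => by
      exact hfp0 (e ▸ hQ₂.le (Ideal.mem_sup_right (Ideal.mem_span_singleton_self f)))
    let π := Ideal.Quotient.mk p
    have hcomap : ∀ q : Ideal A, p ≤ q → (q.map π).comap π = q := fun q hle => by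
      rw [Ideal.comap_map_of_surjective π Ideal.Quotient.mk_surjective]
      simpa [π, ← RingHom.ker_eq_comap_bot, Ideal.mk_ker] using hle
    haveI h2 : (Q₂.map π).IsPrime := Ideal.map_isPrime_of_surjective Ideal.Quotient.mk_surjective (Ideal.mk_ker.le.trans hpQ₂.le)
    haveI h1 : (Q₁.map π).IsPrime := Ideal.map_isPrime_of_surjective Ideal.Quotient.mk_surjective (Ideal.mk_ker.le.trans hpQ₁.le)
    have hb : (⊥ : Ideal (A ⧸ p)) < Q₂.map π := bot_lt_iff_ne_bot.2 fun e => hpQ₂.not_ge (by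
      have := hcomap Q₂ hpQ₂.le
      rw [e, ← RingHom.ker_eq_comap_bot, Ideal.mk_ker] at this
      exact this.ge)
    have hc : Q₂.map π < Q₁.map π := lt_of_le_of_ne (Ideal.map_mono hQ₂Q₁) fun e => hne21 (by
      rw [← hcomap Q₂ hpQ₂.le, e, hcomap Q₁ hpQ₁.le])
    have k2 := Ideal.height_strict_mono_of_isPrime hb
    have k3 := lt_of_lt_of_le (Ideal.height_strict_mono_of_isPrime hc) (Ideal.map_height_le_one_of_mem_minimalPrimes hQ₁)
    rw [ENat.lt_one_iff_eq_zero] at k3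
    rw [k3] at k2
    exact not_lt_bot k2
  exact le_antisymm hPP' ((hmem P' hP' (hpP.trans_le hPP')).2 ⟨hP, (hmem P hP hpP).le⟩ hPP')

end Groth.Agent.GoldmanLib
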